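import Groth.Agent.DimFormula.Catenary
import Mathlib.RingTheory.AlgebraicIndependent.TranscendenceBasis
import Mathlib.RingTheory.Localization.AtPrime.Basic

/-!
# The dimension formula when only the subalgebras of `S[X]` are catenary
-/

set_option autoImplicit false
set_option linter.style.haveILetI false
set_option linter.unusedSectionVars false
set_option backward.isDefEq.respectTransparency false
set_option maxHeartbeats 1000000

universe u

open Order

namespace Groth.Agent.CatDim22

open Groth.Agent.DimFormula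

/-- Additivity of heights below a prime at which a localisation of a domain is catenary. -/
theorem height_add_height_Ici_of_localization {T T' : Type u} [CommRing T] [IsDomain T] [IsNoetherianRing T]
    [CommRing T'] [Algebra T T'] (M : Submonoid T) [IsLocalization M T'] (hM : M ≤ nonZeroDivisors T)
    (hT' : CAlg.IsCatenary T') {Q P : PrimeSpectrum T} (h : Q ≤ P) (hd : ∀ s ∈ M, s ∉ P.asIdeal) :
    height Q + height (⟨P, h⟩ : ↥(Set.Ici Q)) = height P := by
  haveI : IsNoetherianRing T' := IsLocalization.isNoetherianRing M T' inferInstance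
  haveI : IsDomain T' := IsLocalization.isDomain_of_le_nonZeroDivisors T' hM
  let c : PrimeSpectrum T' → PrimeSpectrum T := PrimeSpectrum.comap (algebraMap T T')
  have hle : ∀ R R', c R ≤ c R' ↔ R ≤ R' := fun R R' => by
    refine ⟨fun hh => ?_, fun hh => Ideal.comap_mono hh⟩
    have := Ideal.map_mono (f := algebraMap T T') hh
    rwa [PrimeSpectrum.comap_asIdeal, PrimeSpectrum.comap_asIdeal, IsLocalization.map_under M,
      IsLocalization.map_under M] at this
  have hmono : StrictMono c := fun a b hab =>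
    lt_of_le_of_ne ((hle a b).2 hab.le) fun e => hab.not_ge ((hle b a).1 e.ge)
  have hrange : ∀ R, R ≤ P → R ∈ Set.range c := fun R hR => by
    rw [PrimeSpectrum.localization_comap_range T' M]
    exact Set.disjoint_left.2 fun s hs hsR => hd s hs (hR hsR)
  obtain ⟨Q', hQ'⟩ := hrange Q h
  obtain ⟨P', hP'⟩ := hrange P le_rfl
  subst hQ' hP'
  have hQP : Q' ≤ P' := (hle _ _).1 h
  have h1 : ∀ a, a ≤ P' → height a = height (c a) := fun a ha => by
    refine le_antisymm (height_le_height_apply_of_strictMono _ hmono a) ?_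
    refine height_le fun l hl => ?_
    choose g hg using fun i => hrange (l i) ((LTSeries.monotone l (Fin.le_last i)).trans
      (by show l.last ≤ c P'; rw [hl]; exact (hle _ _).2 ha))
    let l' : LTSeries (PrimeSpectrum T') := LTSeries.mk l.length g fun i j hij => by
      have := l.strictMono hij
      rw [← hg i, ← hg j] at this
      exact lt_of_le_not_ge ((hle _ _).1 this.le) fun hh => this.not_ge ((hle _ _).2 hh)
    refine le_trans (le_of_eq rfl) (length_le_height (p := l') ?_)
    exact ((hle _ _).1 ((hg _).trans hl).le)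
  have h2 : height (⟨P', hQP⟩ : ↥(Set.Ici Q')) = height (⟨c P', h⟩ : ↥(Set.Ici (c Q'))) := by
    let g : ↥(Set.Iic (⟨P', hQP⟩ : ↥(Set.Ici Q'))) → ↥(Set.Iic (⟨c P', h⟩ : ↥(Set.Ici (c Q')))) :=
      fun R => ⟨⟨c R.1.1, (hle _ _).2 R.1.2⟩, (hle _ _).2 R.2⟩
    apply WithBot.coe_injective
    rw [height_eq_krullDim_Iic, height_eq_krullDim_Iic]
    refine Order.krullDim_eq_of_orderIso ⟨Equiv.ofBijective g ⟨fun R R' hh => ?_, fun b => ?_⟩, ?_⟩
    · have he : c R.1.1 = c R'.1.1 := congrArg (fun z : ↥(Set.Iic (⟨c P', h⟩ : ↥(Set.Ici (c Q')))) => z.1.1) hh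
      exact Subtype.ext (Subtype.ext (le_antisymm ((hle _ _).1 he.le) ((hle _ _).1 he.ge)))
    · obtain ⟨R, hR⟩ := hrange b.1.1 b.2
      refine ⟨⟨⟨R, (hle _ _).1 (hR ▸ b.1.2)⟩, (hle R P').1 (hR ▸ b.2)⟩, Subtype.ext (Subtype.ext hR)⟩
    · intro R R'
      exact hle _ _
  rw [← h1 Q' hQP, ← h1 P' le_rfl, ← h2]
  obtain ⟨n, hn⟩ := ENat.ne_top_iff_exists.1 (height_ne_top P')
  refine height_add_height_eq hT'.2 (fun a b ha hb => ?_) hQP hn.symm
  have hbot : ∀ a : PrimeSpectrum T', height a = 0 → a = ⟨⊥, Ideal.isPrime_bot⟩ := fun a ha =>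
    le_antisymm (height_eq_zero.1 ha (show ⊥ ≤ a.asIdeal from bot_le)) (show ⊥ ≤ a.asIdeal from bot_le)
  rw [hbot a ha, hbot b hb]

variable (A : Type u) {B : Type u} [CommRing A] [CommRing B] [Algebra A B]

/-- The dimension formula for an algebra presented by a polynomial ring with additive heights. -/
theorem formula_of_presentation [IsDomain A] [IsDomain B] [FaithfulSMul A B] [IsNoetherianRing A]
    [Algebra.FiniteType A B] {m : ℕ} (π : MvPolynomial (Fin m) A →ₐ[A] B) (hπ : Function.Surjective π)
    (q : Ideal B) [hq : q.IsPrime] (p : Ideal A) [p.IsPrime] [q.LiesOver p]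
    (hadd : ∀ (Q P : PrimeSpectrum (MvPolynomial (Fin m) A)) (h : Q ≤ P), P.asIdeal = q.comap π.toRingHom →
      height Q + height (⟨P, h⟩ : ↥(Set.Ici Q)) = height P) :
    (q.height : Cardinal.{u}) + Algebra.trdeg (A ⧸ p) (B ⧸ q) =
      (p.height : Cardinal.{u}) + Algebra.trdeg A B := by
  obtain rfl : p = q.under A := Ideal.LiesOver.over (P := q) (p := p)
  let P : PrimeSpectrum B := ⟨q, hq⟩
  let T := MvPolynomial (Fin m) A
  let Q : PrimeSpectrum T := PrimeSpectrum.comap π.toRingHom ⟨⊥, Ideal.isPrime_bot⟩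
  let P₀ : PrimeSpectrum T := PrimeSpectrum.comap π.toRingHom P
  have hQP : Q ≤ P₀ := Ideal.comap_mono bot_le
  have hover : ∀ R : PrimeSpectrum B, PrimeSpectrum.comap (algebraMap A T) (PrimeSpectrum.comap π.toRingHom R) =
      PrimeSpectrum.comap (algebraMap A B) R := fun R => by
    rw [← PrimeSpectrum.comap_comp_apply, AlgHom.toRingHom_eq_coe, AlgHom.comp_algebraMap]
  have hQA : height (PrimeSpectrum.comap (algebraMap A T) Q) = 0 := by
    rw [hover, show PrimeSpectrum.comap (algebraMap A B) ⟨⊥, Ideal.isPrime_bot⟩ = ⟨⊥, Ideal.isPrime_bot⟩ from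
      PrimeSpectrum.ext ((RingHom.ker_eq_comap_bot _).symm.trans
        ((RingHom.injective_iff_ker_eq_bot _).1 (FaithfulSMul.algebraMap_injective A B))), height_bot_eq_zero]
  have hfQ : fd A Q.asIdeal = fd A (⊥ : Ideal B) := fd_comap_of_surjective A π hπ ⊥
  have hfP : fd A P₀.asIdeal = fd A P.asIdeal := fd_comap_of_surjective A π hπ P.asIdeal
  have e1 := height_add_fd_mvPolynomial A Q
  rw [hQA, zero_add, hfQ] at e1
  have e2 := height_add_fd_mvPolynomial A P₀
  rw [hfP, hover] at e2
  have hht : height (⟨P₀, hQP⟩ : ↥(Set.Ici Q)) = height P :=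
    height_Ici_comap π.toRingHom hπ Q (RingHom.ker_eq_comap_bot _) P hQP
  have heq := hadd Q P₀ hQP rfl
  rw [hht] at heq
  have hfin : height Q ≠ ⊤ := height_ne_top Q
  have key : height P + (fd A P.asIdeal : ℕ∞) =
      height (PrimeSpectrum.comap (algebraMap A B) P) + (fd A (⊥ : Ideal B) : ℕ∞) := by
    refine le_antisymm ((ENat.add_le_add_iff_left hfin).1 ?_) ((ENat.add_le_add_iff_left hfin).1 ?_) <;>
      rw [← add_assoc (height Q) (height P), heq, e2, add_comm (height Q), add_assoc,
        add_comm (fd A (⊥ : Ideal B) : ℕ∞), e1]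
  have c1 : (fd A q : Cardinal.{u}) = Algebra.trdeg (A ⧸ q.under A) (B ⧸ q) :=
    fd_eq_trdeg A (q.under A) (Ideal.Quotient.mkₐ A q) Ideal.Quotient.mk_surjective q Ideal.mk_ker rfl
  have c2 : q.height = height P := PrimeSpectrum.height_eq_orderHeight P
  have c3 : (q.under A).height = height (PrimeSpectrum.comap (algebraMap A B) P) :=
    PrimeSpectrum.height_eq_orderHeight (PrimeSpectrum.comap (algebraMap A B) P)
  have hc : ∀ (a : ℕ∞) (n : ℕ), ((a + (n : ℕ∞) : ℕ∞) : Cardinal.{u}) = (a : Cardinal.{u}) + n := fun a n => by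
    rw [Cardinal.ofENat_add, Cardinal.ofENat_nat]
  rw [← c1, ← fd_bot_eq_trdeg A (B := B), c2, c3, ← hc, ← hc]
  exact congrArg _ key

section Main

variable (R : Type u) [CommRing R] [IsDomain R] [IsNoetherianRing R] [IsLocalRing R]
  (S : Type u) [CommRing S] [IsDomain S] [Algebra R S]
  (q : Ideal S) [q.IsPrime] [q.LiesOver (IsLocalRing.maximalIdeal R)]
  (hcat : ∀ A' : Subalgebra R (Polynomial S), A'.FG →
      ∀ (m' : Ideal A') [m'.IsMaximal], m'.LiesOver (IsLocalRing.maximalIdeal R) →
        CAlg.IsCatenary (Localization.AtPrime m'))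

include hcat in
/-- Heights add in a polynomial ring in one variable over a finitely generated subalgebra. -/
theorem additive (A : Type u) [CommRing A] [IsDomain A] [IsNoetherianRing A] [Algebra R A]
    [Algebra.FiniteType R A] (ι : A →ₐ[R] S) (hι : Function.Injective ι)
    (Q P : PrimeSpectrum (MvPolynomial (Fin 1) A)) (h : Q ≤ P)
    (hP : P.asIdeal.under R = IsLocalRing.maximalIdeal R) :
    height Q + height (⟨P, h⟩ : ↥(Set.Ici Q)) = height P := by
  let T := MvPolynomial (Fin 1) A
  haveI : Algebra.FiniteType R T := Algebra.FiniteType.trans ‹Algebra.FiniteType R A› inferInstance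
  let ev : T →ₐ[R] Polynomial S :=
    ((Polynomial.mapAlgHom ι).comp ((MvPolynomial.uniqueAlgEquiv A (Fin 1)).toAlgHom.restrictScalars R))
  have hev : Function.Injective ev :=
    (Polynomial.map_injective ι.toRingHom hι).comp (MvPolynomial.uniqueAlgEquiv A (Fin 1)).injective
  have hfg : ev.range.FG := by
    rw [← Algebra.map_top]
    exact Subalgebra.FG.map ev (Algebra.FiniteType.out)
  let e : T ≃ₐ[R] ev.range := AlgEquiv.ofInjective ev hev
  obtain ⟨mT, hmT, hPm⟩ := Ideal.exists_le_maximal _ P.isPrime.ne_top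
  let m' : Ideal ev.range := mT.comap e.symm.toRingEquiv.toRingHom
  haveI := hmT
  haveI hm' : m'.IsMaximal := Ideal.comap_isMaximal_of_surjective _ e.symm.surjective
  have hlo : m'.LiesOver (IsLocalRing.maximalIdeal R) := by
    constructor
    refine ((IsLocalRing.maximalIdeal.isMaximal R).eq_of_le (Ideal.comap_ne_top _ hm'.ne_top) ?_)
    intro r hr
    rw [← hP] at hr
    show e.symm (algebraMap R ev.range r) ∈ mT
    rw [AlgEquiv.commutes]
    exact hPm hr
  have hc := hcat ev.range hfg m' hlo
  letI : Algebra T (Localization.AtPrime m') :=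
    ((algebraMap ev.range (Localization.AtPrime m')).comp e.symm.toRingEquiv.symm.toRingHom).toAlgebra
  haveI : IsLocalization mT.primeCompl (Localization.AtPrime m') := by
    have := IsLocalization.isLocalization_of_base_ringEquiv m'.primeCompl (Localization.AtPrime m') e.symm.toRingEquiv
    convert this using 1
    · ext x
      simp only [Submonoid.mem_map, Ideal.mem_primeCompl_iff]
      constructor
      · intro hx
        refine ⟨e x, fun hh => hx ?_, e.symm_apply_apply x⟩
        have h' : e.symm (e x) ∈ mT := hh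
        rwa [e.symm_apply_apply] at h'
      · rintro ⟨y, hy, rfl⟩
        exact hy
  exact height_add_height_Ici_of_localization mT.primeCompl mT.primeCompl_le_nonZeroDivisors hc h
    fun s hs hsP => hs (hPm hsP)

variable [FaithfulSMul R S]

include hcat in
theorem main_adjoin (s : Finset S) :
    ((q.comap (Algebra.adjoin R (s : Set S)).val.toRingHom).height : Cardinal.{u}) +
        Algebra.trdeg (R ⧸ IsLocalRing.maximalIdeal R)
          (Algebra.adjoin R (s : Set S) ⧸ q.under (Algebra.adjoin R (s : Set S))) =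
      ((IsLocalRing.maximalIdeal R).height : Cardinal.{u}) + Algebra.trdeg R (Algebra.adjoin R (s : Set S)) := by
  classical
  let 𝔪 := IsLocalRing.maximalIdeal R
  induction s using Finset.induction_on with
  | empty =>
    let A := Algebra.adjoin R ((∅ : Finset S) : Set S)
    let p := q.under A
    have hsurj : Function.Surjective (algebraMap R A) := by
      rintro ⟨a, ha⟩
      simp only [A, Finset.coe_empty, Algebra.adjoin_empty] at ha
      obtain ⟨r, rfl⟩ := Algebra.mem_bot.1 ha
      exact ⟨r, rfl⟩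
    have hinj : Function.Injective (algebraMap R A) := FaithfulSMul.algebraMap_injective R A
    have hp : p.under R = 𝔪 := by
      rw [Ideal.under_under]
      exact (Ideal.LiesOver.over (P := q) (p := 𝔪)).symm
    haveI : p.LiesOver 𝔪 := ⟨hp.symm⟩
    haveI : Algebra.IsAlgebraic R A := ⟨fun a => by
      obtain ⟨r, rfl⟩ := hsurj a
      exact isAlgebraic_algebraMap r⟩
    have hs2 : Function.Surjective (algebraMap (R ⧸ 𝔪) (A ⧸ p)) := fun z => by
      obtain ⟨a, rfl⟩ := Ideal.Quotient.mk_surjective z
      obtain ⟨r, rfl⟩ := hsurj a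
      exact ⟨Ideal.Quotient.mk _ r, rfl⟩
    haveI : Algebra.IsAlgebraic (R ⧸ 𝔪) (A ⧸ p) := ⟨fun a => by
      obtain ⟨r, rfl⟩ := hs2 a
      exact isAlgebraic_algebraMap r⟩
    have hh : p.height = 𝔪.height := by
      rw [← hp, show p.under R = p.comap (RingEquiv.ofBijective _ ⟨hinj, hsurj⟩) from rfl]
      exact ((RingEquiv.ofBijective _ ⟨hinj, hsurj⟩).height_comap p).symm
    rw [show (q.comap A.val.toRingHom) = p from rfl, hh, trdeg_eq_zero, trdeg_eq_zero]
  | @insert x s _ ih =>
    let A := Algebra.adjoin R (s : Set S)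
    let B := Algebra.adjoin R ((insert x s : Finset S) : Set S)
    have hAB : A ≤ B := Algebra.adjoin_mono (by simp)
    letI : Algebra A B := (Subalgebra.inclusion hAB).toRingHom.toAlgebra
    haveI : IsScalarTower R A B := IsScalarTower.of_algebraMap_eq fun _ => rfl
    haveI : IsScalarTower A B S := IsScalarTower.of_algebraMap_eq fun _ => rfl
    haveI : FaithfulSMul A B := (faithfulSMul_iff_algebraMap_injective A B).2 (Subalgebra.inclusion_injective hAB)
    haveI : Algebra.FiniteType R A := (Subalgebra.fg_iff_finiteType _).1 ⟨s, rfl⟩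
    haveI : Algebra.FiniteType R B := (Subalgebra.fg_iff_finiteType _).1 ⟨insert x s, rfl⟩
    haveI : IsNoetherianRing A := Algebra.FiniteType.isNoetherianRing R A
    haveI : Algebra.FiniteType A B := Algebra.FiniteType.of_restrictScalars_finiteType R A B
    let xb : B := ⟨x, Algebra.subset_adjoin (by simp)⟩
    let π : MvPolynomial (Fin 1) A →ₐ[A] B := MvPolynomial.aeval fun _ => xb
    have hπ : Function.Surjective π := by
      suffices ∀ y (hy : y ∈ B), (⟨y, hy⟩ : B) ∈ π.range by exact fun b => this b.1 b.2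
      intro y hy
      induction hy using Algebra.adjoin_induction with
      | mem y hy =>
        rcases Finset.mem_insert.1 (Finset.mem_coe.1 hy) with rfl | hy
        · exact ⟨MvPolynomial.X 0, MvPolynomial.aeval_X _ _⟩
        · exact π.range.algebraMap_mem ⟨y, Algebra.subset_adjoin hy⟩
      | algebraMap r => exact π.range.algebraMap_mem (algebraMap R A r)
      | add a b ha hb iha ihb => exact π.range.add_mem iha ihb
      | mul a b ha hb iha ihb => exact π.range.mul_mem iha ihb
    let pA := q.under A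
    let pB := q.under B
    haveI : pB.LiesOver pA := ⟨(Ideal.under_under (A := A) (B := B) q).symm⟩
    have hA𝔪 : pA.under R = 𝔪 := (Ideal.under_under (A := R) (B := A) q).trans (Ideal.LiesOver.over (P := q) (p := 𝔪)).symm
    haveI : pA.LiesOver 𝔪 := ⟨hA𝔪.symm⟩
    haveI : pB.LiesOver 𝔪 := ⟨((Ideal.under_under (A := R) (B := B) q).trans (Ideal.LiesOver.over (P := q) (p := 𝔪)).symm).symm⟩
    have hstep := formula_of_presentation A π hπ pB pA fun Q P h hP =>
      additive R S hcat A A.val Subtype.val_injective Q P h (by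
        rw [hP, Ideal.under_def, Ideal.comap_comap,
          show π.toRingHom.comp (algebraMap R (MvPolynomial (Fin 1) A)) = algebraMap R B from
            (π.restrictScalars R).comp_algebraMap]
        exact (Ideal.LiesOver.over (P := pB) (p := 𝔪)).symm)
    haveI : FaithfulSMul (R ⧸ 𝔪) (A ⧸ pA) := Ideal.Quotient.instFaithfulSMul _ _
    haveI : FaithfulSMul (A ⧸ pA) (B ⧸ pB) := Ideal.Quotient.instFaithfulSMul _ _
    haveI : IsScalarTower (R ⧸ 𝔪) (A ⧸ pA) (B ⧸ pB) := IsScalarTower.of_algebraMap_eq fun z => by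
      obtain ⟨r, rfl⟩ := Ideal.Quotient.mk_surjective z
      rfl
    have t1 := trdeg_add_eq R A (A := B)
    have t2 := trdeg_add_eq (R ⧸ 𝔪) (A ⧸ pA) (A := B ⧸ pB)
    rw [show (q.comap B.val.toRingHom) = pB from rfl, ← t1, ← t2,
      add_left_comm (pB.height : Cardinal.{u}), hstep, add_left_comm (Algebra.trdeg (R ⧸ 𝔪) (A ⧸ pA)),
      ← add_assoc, ← add_assoc]
    exact congrArg (· + Algebra.trdeg A B) ih

include hcat in
theorem main [Algebra.FiniteType R S] :
    (q.height : Cardinal.{u}) + Algebra.trdeg (R ⧸ IsLocalRing.maximalIdeal R) (S ⧸ q) =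
      ((IsLocalRing.maximalIdeal R).height : Cardinal.{u}) + Algebra.trdeg R S := by
  obtain ⟨s, hs⟩ := (‹Algebra.FiniteType R S›).out
  have h := main_adjoin R S q hcat s
  let A := Algebra.adjoin R (s : Set S)
  let e : A ≃ₐ[R] S := (Subalgebra.equivOfEq _ _ hs).trans Subalgebra.topEquiv
  let p := q.under A
  haveI : p.LiesOver (IsLocalRing.maximalIdeal R) :=
    ⟨((Ideal.under_under (A := R) (B := A) q).trans (Ideal.LiesOver.over (P := q) (p := IsLocalRing.maximalIdeal R)).symm).symm⟩
  have hp : p = q.comap e.toRingEquiv := rfl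
  have h1 : p.height = q.height := by rw [hp]; exact e.toRingEquiv.height_comap q
  let e' : (A ⧸ p) ≃+* (S ⧸ q) := Ideal.quotientEquiv p q e.toRingEquiv
    (by rw [hp]; exact (Ideal.map_comap_of_surjective _ e.surjective q).symm)
  let e'' : (A ⧸ p) ≃ₐ[R ⧸ IsLocalRing.maximalIdeal R] (S ⧸ q) := AlgEquiv.ofRingEquiv (f := e') fun z => by
    obtain ⟨r, rfl⟩ := Ideal.Quotient.mk_surjective z
    exact congrArg (Ideal.Quotient.mk q) (e.commutes r)
  have h2 := e''.trdeg_eq
  have h3 := e.trdeg_eq
  rw [← h1, ← h2, ← h3]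
  exact h

end Main

end Groth.Agent.CatDim22
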